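import Groth.Agent.FibDim.RelDim
import Groth.Agent.FibDim.LocDim
import Mathlib.Topology.KrullDimension

/-!
# The dimension inequality over a point with Noetherian local ring
-/

set_option autoImplicit false
set_option linter.style.haveILetI false
set_option backward.isDefEq.respectTransparency false

open AlgebraicGeometry CategoryTheory Limits Topology Order

namespace Groth.Agent.FibDim

universe u

variable {X Y : Scheme.{u}}

/-- `rd f z + 1 ≤ rd f η + dim O_{Y, f z}` for a specialization `η ⤳ z` not in a single fibre, when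
only `O_{Y, f z}` is Noetherian. -/
theorem rd_add_one_le (f : X ⟶ Y) [LocallyOfFiniteType f] {η z : X} (h : η ⤳ z)
    [IsNoetherianRing (Y.presheaf.stalk (f z))] (hne : f η ≠ f z) :
    (((rd f z + 1 : ℕ) : ℕ∞) : WithBot ℕ∞) ≤
      ((rd f η : ℕ∞) : WithBot ℕ∞) + ringKrullDim (Y.presheaf.stalk (f z)) := by
  let R := Y.presheaf.stalk (f z)
  let i : Spec R ⟶ Y := Y.fromSpecStalk (f z)
  let p := pullback.fst f i
  let q := pullback.snd f i
  haveI : IsPreimmersion p := MorphismProperty.pullback_fst f i inferInstance
  haveI : LocallyOfFiniteType q := MorphismProperty.pullback_snd f i inferInstance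
  haveI : IsLocallyNoetherian (pullback f i) := LocallyOfFiniteType.isLocallyNoetherian q
  have hrange : ∀ w : X, f w ⤳ f z → w ∈ Set.range p := by
    intro w hw
    show w ∈ Set.range (pullback.fst f i)
    rw [Scheme.Pullback.range_fst]
    show f w ∈ Set.range (Y.fromSpecStalk (f z))
    rw [Scheme.range_fromSpecStalk]
    exact hw
  obtain ⟨z', hz'⟩ := hrange z (specializes_refl _)
  obtain ⟨η', hη'⟩ := hrange η (h.map f.continuous)
  have hsp : η' ⤳ z' := by
    rw [← p.isEmbedding.isInducing.specializes_iff, hz', hη']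
    exact h
  have hrd : ∀ w, rd q w = rd f (p w) := by
    intro w
    have h1 := rdeg_congr_preimmersion (a := p) (b := i) (f := f) (f' := q)
      pullback.condition.symm w
    rw [← rd_eq_rdeg, ← rd_eq_rdeg] at h1
    exact_mod_cast h1
  have hi : ∀ w, i (q w) = f (p w) := fun w => by
    show (q ≫ i) w = (p ≫ f) w
    rw [show q ≫ i = p ≫ f from pullback.condition.symm]
  have hne' : η' ≠ z' := fun e => hne (by rw [← hη', ← hz', e])
  have h1 := (DimFormula.cd_formula q hsp).1
  rw [hrd, hrd, hz', hη'] at h1
  have h2 : 1 ≤ DimFormula.cd η' z' := by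
    rcases Nat.eq_zero_or_pos (DimFormula.cd η' z') with h0 | h0
    · exact absurd ((DimFormula.cd_eq_zero_iff hsp).1 h0) hne'
    · exact h0
  have h3 : DimFormula.cd (q η') (q z') ≤ DimFormula.codim (q z') :=
    DimFormula.cd_le_codim (hsp.map q.continuous)
  have h4 : (((DimFormula.codim (q z') : ℕ) : ℕ∞) : WithBot ℕ∞) ≤ ringKrullDim R := by
    rw [← PrimeSpectrum.topologicalKrullDim_eq_ringKrullDim]
    refine le_trans ?_ (topologicalKrullDim_eq_iSup_codim (X := Spec R)).ge
    exact le_iSup (fun x : Spec R => ((DimFormula.codim x : ℕ∞) : WithBot ℕ∞)) (q z')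
  refine le_trans ?_ (add_le_add le_rfl h4)
  exact_mod_cast (show rd f z + 1 ≤ rd f η + DimFormula.codim (q z') by omega)

/-- Every point has a maximal generization. -/
theorem exists_maximal (x : X) : ∃ η, η ⤳ x ∧ (∀ w, w ⤳ η → w = η) ∧
    closure {η} ∈ irreducibleComponents (X : Type u) := by
  obtain ⟨η, hη, hmax⟩ := exists_maximal_generization x
  exact ⟨η, hη, hmax, FDescent.closure_mem_irreducibleComponents (X := (X : Type u)) hmax⟩

end Groth.Agent.FibDim
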